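import Mathlib

/-!
Quadratic orders over a formal disk.
-/

set_option autoImplicit false

universe u

namespace Crimp.Double

open Module

section gen

variable {R A : Type u} [CommRing R] [IsDomain R] [CommRing A] [Algebra R A]

theorem discr_pair (b : Basis (Fin 2) R A) (w : A) (h0 : b 0 = 1) (h1 : b 1 = w) (u v : R)
    (hw : w * w = algebraMap R A u + v • w) : Algebra.discr R ⇑b = v ^ 2 + 4 * u := by
  have hr : ∀ i, b.repr w i = if i = 1 then 1 else 0 := fun i => by
    rw [← h1, b.repr_self, Finsupp.single_apply]; fin_cases i <;> simp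
  have hr1 : ∀ i, b.repr 1 i = if i = 0 then 1 else 0 := fun i => by
    rw [← h0, b.repr_self, Finsupp.single_apply]; fin_cases i <;> simp
  have hr2 : ∀ i, b.repr (w * w) i = if i = 0 then u else v := fun i => by
    rw [hw, Algebra.algebraMap_eq_smul_one, map_add, map_smul, map_smul, Finsupp.add_apply, Finsupp.smul_apply,
      Finsupp.smul_apply, hr, hr1]
    fin_cases i <;> simp
  have t1 : Algebra.trace R A 1 = 2 := by
    rw [Algebra.trace_eq_matrix_trace b, Matrix.trace_fin_two, Algebra.leftMulMatrix_eq_repr_mul,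
      Algebra.leftMulMatrix_eq_repr_mul, one_mul, one_mul, b.repr_self, b.repr_self]
    simp; norm_num
  have tw : Algebra.trace R A w = v := by
    rw [Algebra.trace_eq_matrix_trace b, Matrix.trace_fin_two, Algebra.leftMulMatrix_eq_repr_mul,
      Algebra.leftMulMatrix_eq_repr_mul, h0, h1, mul_one, hr, hr2]
    simp
  have tww : Algebra.trace R A (w * w) = 2 * u + v * v := by
    rw [hw, Algebra.algebraMap_eq_smul_one, map_add, map_smul, map_smul, t1, tw, smul_eq_mul, smul_eq_mul, mul_comm u]
  rw [Algebra.discr_def, Matrix.det_fin_two]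
  simp only [Algebra.traceMatrix_apply, Algebra.traceForm_apply, h0, h1, one_mul, mul_one, t1, tw, tww]
  ring

theorem span_discr_eq (b b' : Basis (Fin 2) R A) :
    Ideal.span {Algebra.discr R ⇑b} = Ideal.span {Algebra.discr R ⇑b'} := by
  classical
  have h : ∀ c c' : Basis (Fin 2) R A, Algebra.discr R ⇑c ∣ Algebra.discr R ⇑c' := fun c c' => by
    refine ⟨(c.toMatrix ⇑c').det ^ 2, ?_⟩
    rw [mul_comm, ← Algebra.discr_of_matrix_vecMul]
    congr 1
    funext j
    show c' j = ∑ i, c i * algebraMap R A (c.toMatrix c' i j)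
    conv_lhs => rw [← c.sum_repr (c' j)]
    exact Finset.sum_congr rfl fun i _ => by rw [Algebra.smul_def, mul_comm]; rfl
  exact le_antisymm (Ideal.span_singleton_le_span_singleton.2 (h b' b)) (Ideal.span_singleton_le_span_singleton.2 (h b b'))

theorem equiv_adjoinRoot (b : Basis (Fin 2) R A) (h0 : b 0 = 1) (z : A) (hz1 : Submodule.span R {1, z} = (⊤ : Submodule R A))
    (c : R) (hz : z * z = algebraMap R A c) :
    Nonempty (A ≃ₐ[R] AdjoinRoot (Polynomial.X ^ 2 - Polynomial.C c)) := by
  have hmon : (Polynomial.X ^ 2 - Polynomial.C c).Monic := Polynomial.monic_X_pow_sub_C c two_ne_zero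
  let φ : AdjoinRoot (Polynomial.X ^ 2 - Polynomial.C c) →ₐ[R] A :=
    AdjoinRoot.liftAlgHom (Polynomial.X ^ 2 - Polynomial.C c) (Algebra.ofId R A) z (by
      rw [Polynomial.eval₂_sub, Polynomial.eval₂_pow, Polynomial.eval₂_X, Polynomial.eval₂_C, sq, hz]; simp)
  have hsurj : Function.Surjective φ := fun a => by
    have ha : a ∈ Submodule.span R ({1, z} : Set A) := hz1 ▸ trivial
    obtain ⟨p, q, rfl⟩ := Submodule.mem_span_pair.1 ha
    exact ⟨p • 1 + q • AdjoinRoot.root _, by simp [φ]⟩
  let pb := AdjoinRoot.powerBasis' hmon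
  have hdim : pb.dim = 2 := by rw [AdjoinRoot.powerBasis'_dim, Polynomial.natDegree_X_pow_sub_C]
  let e : AdjoinRoot (Polynomial.X ^ 2 - Polynomial.C c) ≃ₗ[R] A := (pb.basis.reindex (finCongr hdim)).equiv b (Equiv.refl _)
  haveI : Module.Finite R A := Module.Finite.of_basis b
  have hinj : Function.Injective φ := by
    have := OrzechProperty.injective_of_surjective_endomorphism (φ.toLinearMap ∘ₗ e.symm.toLinearMap)
      (hsurj.comp e.symm.surjective)
    intro x y hxy
    exact e.injective (this (show φ (e.symm (e x)) = φ (e.symm (e y)) by simpa using hxy))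
  exact ⟨(AlgEquiv.ofBijective φ ⟨hinj, hsurj⟩).symm⟩

end gen

section order

open PowerSeries

variable {k : Type u} [Field k] {A : Type u} [CommRing A] [Algebra (PowerSeries k) A]
  (bA : Basis (Fin 2) (PowerSeries k) A) (e : A) (h0 : bA 0 = 1) (h1 : bA 1 = e)

include h0 h1 in
theorem eq_coord (a : A) : a = bA.repr a 0 • 1 + bA.repr a 1 • e := by
  conv_lhs => rw [← bA.sum_repr a]
  rw [Fin.sum_univ_two, h0, h1]

/-- The `n`th order. -/
noncomputable abbrev std (A : Type u) [CommRing A] [Algebra (PowerSeries k) A] (n : ℕ) : Submodule (PowerSeries k) A :=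
  Submodule.span (PowerSeries k) {(1 : A)} ⊔
    Ideal.span {(PowerSeries.X : PowerSeries k) ^ n} • (⊤ : Submodule (PowerSeries k) A)

include h0 h1 in
theorem std_eq (n : ℕ) : std A n = Submodule.span (PowerSeries k) {1, (PowerSeries.X : PowerSeries k) ^ n • e} := by
  rw [std, Submodule.ideal_span_singleton_smul]
  refine le_antisymm (sup_le (Submodule.span_mono (by simp)) fun a ha => ?_) ?_
  · obtain ⟨y, -, rfl⟩ := (Submodule.mem_smul_pointwise_iff_exists _ _ _).1 ha
    rw [eq_coord bA e h0 h1 y, smul_add, smul_smul, smul_smul]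
    exact Submodule.mem_span_pair.2 ⟨PowerSeries.X ^ n * bA.repr y 0, bA.repr y 1, by
      rw [smul_smul, mul_comm (bA.repr y 1)]⟩
  · rw [Submodule.span_le, Set.insert_subset_iff, Set.singleton_subset_iff]
    exact ⟨Submodule.mem_sup_left (Submodule.subset_span rfl),
      Submodule.mem_sup_right (Submodule.smul_mem_pointwise_smul e _ ⊤ trivial)⟩

include h0 h1 in
theorem exists_std (S : Subalgebra (PowerSeries k) A) (bS : Basis (Fin 2) (PowerSeries k) S) :
    ∃ n, Subalgebra.toSubmodule S = std A n := by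
  let J : Ideal (PowerSeries k) := S.toSubmodule.comap (LinearMap.toSpanSingleton (PowerSeries k) A e)
  have hdec : ∀ a ∈ S, bA.repr a 1 ∈ J := fun a ha => by
    show bA.repr a 1 • e ∈ S.toSubmodule
    have e' : bA.repr a 1 • e = a - bA.repr a 0 • 1 := by
      rw [eq_sub_iff_add_eq', ← eq_coord bA e h0 h1]
    rw [e']
    exact sub_mem ha (S.toSubmodule.smul_mem _ S.one_mem)
  have hJ : J ≠ ⊥ := fun hJ => by
    have hle : ∀ i, ((bS i : S) : A) = bA.repr (bS i : A) 0 • 1 := fun i => by
      have := hdec _ (bS i).2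
      rw [hJ, Submodule.mem_bot] at this
      conv_lhs => rw [eq_coord bA e h0 h1 (bS i : A), this, zero_smul, add_zero]
    set a0 := bA.repr (bS 0 : A) 0
    set a1 := bA.repr (bS 1 : A) 0
    have hli := LinearIndependent.pair_iff.1 (show LinearIndependent (PowerSeries k) ![bS 0, bS 1] by
      have : (![bS 0, bS 1]) = ⇑bS := by funext i; fin_cases i <;> rfl
      rw [this]; exact bS.linearIndependent) a1 (-a0) (Subtype.ext (by
        show a1 • (bS 0 : A) + (-a0) • (bS 1 : A) = 0
        rw [hle 0, hle 1, smul_smul, smul_smul, ← add_smul]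
        rw [show a1 * a0 + -a0 * a1 = (0 : PowerSeries k) by ring, zero_smul]))
    have hz : ((bS 0 : S) : A) = 0 := by rw [hle 0, show bA.repr (bS 0 : A) 0 = 0 from neg_eq_zero.1 hli.2, zero_smul]
    exact bS.ne_zero 0 (Subtype.ext hz)
  obtain ⟨n, hn⟩ := IsDiscreteValuationRing.ideal_eq_span_pow_irreducible hJ PowerSeries.X_irreducible
  refine ⟨n, ?_⟩
  rw [std_eq bA e h0 h1]
  refine le_antisymm (fun a ha => ?_) ?_
  · have := hdec a ha
    rw [hn, Ideal.mem_span_singleton] at this
    obtain ⟨q, hq⟩ := this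
    exact Submodule.mem_span_pair.2 ⟨bA.repr a 0, q, by
      conv_rhs => rw [eq_coord bA e h0 h1 a, hq]
      rw [smul_smul, mul_comm q]⟩
  · rw [Submodule.span_le, Set.insert_subset_iff, Set.singleton_subset_iff]
    refine ⟨S.one_mem, ?_⟩
    have : (PowerSeries.X : PowerSeries k) ^ n ∈ J := hn ▸ Ideal.mem_span_singleton_self _
    exact this

variable (u v : PowerSeries k) (he : e * e = algebraMap (PowerSeries k) A u + v • e)

include h0 h1 he in
theorem exists_basis (S : Subalgebra (PowerSeries k) A) (n : ℕ) (hS : Subalgebra.toSubmodule S = std A n) :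
    ∃ b : Basis (Fin 2) (PowerSeries k) S, b 0 = 1 ∧ ((b 1 : S) : A) = (PowerSeries.X : PowerSeries k) ^ n • e ∧
      (b 1) * (b 1) = algebraMap (PowerSeries k) S (PowerSeries.X ^ (2 * n) * u) + (PowerSeries.X ^ n * v) • b 1 ∧
      Algebra.discr (PowerSeries k) ⇑b = PowerSeries.X ^ (2 * n) * (v ^ 2 + 4 * u) := by
  rw [std_eq bA e h0 h1] at hS
  have hw : (PowerSeries.X : PowerSeries k) ^ n • e ∈ S := by
    show _ ∈ Subalgebra.toSubmodule S
    rw [hS]; exact Submodule.subset_span (by simp)
  set w : S := ⟨_, hw⟩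
  have hli : LinearIndependent (PowerSeries k) ![(1 : S), w] := by
    rw [LinearIndependent.pair_iff]
    intro p q hpq
    have h := congrArg (fun z : S => bA.repr (z : A)) hpq
    simp only [Subalgebra.coe_add, Subalgebra.coe_smul, Subalgebra.coe_one, ZeroMemClass.coe_zero, map_zero, w,
      smul_smul, ← h0, ← h1, map_add, map_smul, bA.repr_self] at h
    have e0 := DFunLike.congr_fun h 0
    have e1 := DFunLike.congr_fun h 1
    simp at e0 e1
    exact ⟨e0, e1⟩
  have htop : ⊤ ≤ Submodule.span (PowerSeries k) (Set.range ![(1 : S), w]) := fun a _ => by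
    have ha : (a : A) ∈ Subalgebra.toSubmodule S := a.2
    rw [hS] at ha
    obtain ⟨p, q, hpq⟩ := Submodule.mem_span_pair.1 ha
    exact (Submodule.mem_span_range_iff_exists_fun _).2 ⟨![p, q], by
      rw [Fin.sum_univ_two]; exact Subtype.ext (by simpa [w] using hpq)⟩
  let b := Basis.mk hli htop
  have hb0 : b 0 = 1 := by simp [b]
  have hb1 : b 1 = w := by simp [b]
  have hww : w * w = algebraMap (PowerSeries k) S (PowerSeries.X ^ (2 * n) * u) + (PowerSeries.X ^ n * v) • w := by
    refine Subtype.ext ?_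
    show (PowerSeries.X ^ n • e) * (PowerSeries.X ^ n • e) =
      algebraMap (PowerSeries k) A (PowerSeries.X ^ (2 * n) * u) + (PowerSeries.X ^ n * v) • (PowerSeries.X ^ n • e)
    rw [smul_mul_smul_comm, he, smul_add, Algebra.smul_def, ← map_mul, smul_smul, smul_smul, ← pow_add, two_mul]
    congr 2
    ring
  refine ⟨b, hb0, by rw [hb1], by rw [hb1]; exact hww, ?_⟩
  rw [discr_pair b w hb0 hb1 _ _ hww]
  ring

include h0 h1 he in
theorem criterion (d : ℕ) (ε : (PowerSeries k)ˣ) (hd : v ^ 2 + 4 * u = (ε : PowerSeries k) * (PowerSeries.X : PowerSeries k) ^ d)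
    (S : Subalgebra (PowerSeries k) A) (m : ℕ) :
    (∃ bS : Basis (Fin 2) (PowerSeries k) S,
      Ideal.span {Algebra.discr (PowerSeries k) ⇑bS} = Ideal.span {(PowerSeries.X : PowerSeries k) ^ m}) ↔
    ∃ n : ℕ, m = 2 * n + d ∧ Subalgebra.toSubmodule S = std A n := by
  have hspan : ∀ n (b : Basis (Fin 2) (PowerSeries k) S),
      Algebra.discr (PowerSeries k) ⇑b = PowerSeries.X ^ (2 * n) * (v ^ 2 + 4 * u) →
      Ideal.span {Algebra.discr (PowerSeries k) ⇑b} = Ideal.span {(PowerSeries.X : PowerSeries k) ^ (2 * n + d)} :=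
    fun n b hb => by
      rw [hb, hd, pow_add, ← mul_assoc, mul_comm _ (ε : PowerSeries k), mul_assoc]
      exact Ideal.span_singleton_mul_left_unit ε.isUnit _
  constructor
  · rintro ⟨bS, hbS⟩
    obtain ⟨n, hn⟩ := exists_std bA e h0 h1 S bS
    obtain ⟨b, -, -, -, hb⟩ := exists_basis bA e h0 h1 u v he S n hn
    refine ⟨n, ?_, hn⟩
    rw [span_discr_eq bS b, hspan n b hb, Ideal.span_singleton_eq_span_singleton] at hbS
    obtain ⟨w, hw⟩ := hbS
    have := congrArg PowerSeries.order hw
    rw [PowerSeries.order_mul, PowerSeries.order_X_pow, PowerSeries.order_X_pow,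
      PowerSeries.order_zero_of_unit w.isUnit, add_zero] at this
    exact_mod_cast this.symm
  · rintro ⟨n, rfl, hn⟩
    obtain ⟨b, -, -, -, hb⟩ := exists_basis bA e h0 h1 u v he S n hn
    exact ⟨b, hspan n b hb⟩

include h0 h1 he in
theorem iso [CharZero k] (S : Subalgebra (PowerSeries k) A) (n : ℕ) (hS : Subalgebra.toSubmodule S = std A n)
    (c : PowerSeries k) (hc : (v = 0 ∧ c = PowerSeries.X ^ (2 * n) * u) ∨
      c = PowerSeries.X ^ (2 * n) * (v ^ 2 + 4 * u)) :
    Nonempty (S ≃ₐ[PowerSeries k] AdjoinRoot (Polynomial.X ^ 2 - Polynomial.C c)) := by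
  obtain ⟨b, hb0, -, hww, -⟩ := exists_basis bA e h0 h1 u v he S n hS
  set w := b 1 with hw
  have htop : Submodule.span (PowerSeries k) {1, w} = (⊤ : Submodule (PowerSeries k) S) := by
    rw [← b.span_eq]; congr 1
    ext x; simp [Fin.exists_fin_two, hb0, ← hw, eq_comm]
  rcases hc with ⟨rfl, rfl⟩ | rfl
  · exact equiv_adjoinRoot b hb0 w htop _ (by rw [hww, mul_zero, zero_smul, add_zero])
  · obtain ⟨h2, hh2⟩ : IsUnit (2 : PowerSeries k) := by
      rw [show (2 : PowerSeries k) = PowerSeries.C (2 : k) from (map_ofNat PowerSeries.C 2).symm]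
      exact (isUnit_iff_ne_zero.2 two_ne_zero).map _
    refine equiv_adjoinRoot b hb0 ((2 : PowerSeries k) • w - (PowerSeries.X ^ n * v) • 1) (top_unique ?_) _ ?_
    · rw [← htop, Submodule.span_le, Set.insert_subset_iff, Set.singleton_subset_iff]
      refine ⟨Submodule.subset_span (by simp), Submodule.mem_span_pair.2
        ⟨((h2⁻¹ : (PowerSeries k)ˣ) : PowerSeries k) * (PowerSeries.X ^ n * v), ((h2⁻¹ : (PowerSeries k)ˣ) : PowerSeries k), ?_⟩⟩
      rw [smul_sub, smul_smul, smul_smul, ← hh2, Units.inv_mul, one_smul]; abel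
    · have key : ∀ a b' : PowerSeries k, (a • w - b' • (1 : S)) * (a • w - b' • 1) =
          (a * a) • (w * w) - (2 * a * b') • w + (b' * b') • 1 := fun a b' => by
        simp only [Algebra.smul_def, map_mul, map_ofNat, mul_one]; ring
      rw [key, hww]
      simp only [Algebra.smul_def, map_mul, map_add, map_pow, map_ofNat, mul_one]
      ring

end order

end Crimp.Double
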