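import Groth.Prelude.Def_W4c1hurwitzcptBd
import Mathlib

/-!
Lattices in `k⟦x⟧` over `k⟦x^p⟧`.
-/

namespace Crimp

open W4c1hurwitzcpt PowerSeries

variable {k : Type*} [Field k] {p : ℕ} [NeZero p]

lemma val_smul (a : PowerSeries k) (f : RootDisk p k) :
    RootDisk.val (a • f) = PowerSeries.expand p (NeZero.ne p) a * RootDisk.val f := rfl

lemma order_val_smul (a : PowerSeries k) (f : RootDisk p k) :
    (RootDisk.val (a • f)).order = p • a.order + (RootDisk.val f).order := by
  rw [val_smul, order_mul, order_expand]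

/-- the element `x ^ i` -/
noncomputable def xp (i : ℕ) : RootDisk p k := RootDisk.val.symm (PowerSeries.X ^ i)

lemma eq_sum (y : RootDisk p k) :
    y = ∑ r : Fin p, (PowerSeries.mk fun s => PowerSeries.coeff (p * s + r) (RootDisk.val y)) •
      (xp (r : ℕ) : RootDisk p k) := by
  apply RootDisk.val.injective
  rw [map_sum]
  have hp : 0 < p := Nat.pos_of_ne_zero (NeZero.ne p)
  ext N
  simp only [val_smul, xp, RingEquiv.apply_symm_apply, map_sum, coeff_mul_X_pow', coeff_expand,
    coeff_mk]
  rw [Finset.sum_eq_single (⟨N % p, Nat.mod_lt _ hp⟩ : Fin p)]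
  · have h1 : p ∣ N - N % p := Nat.dvd_sub_mod N
    rw [if_pos (Nat.mod_le _ _), if_pos h1]
    congr
    dsimp only
    have := Nat.mul_div_cancel' h1
    have := Nat.mod_le N p
    omega
  · intro r _ hr
    split_ifs with h1 h2
    · exfalso
      apply hr
      apply Fin.ext
      obtain ⟨c, hc⟩ := h2
      show (r : ℕ) = N % p
      rw [show N = r + p * c by omega, Nat.add_mul_mod_self_left, Nat.mod_eq_of_lt r.2]
    · rfl
    · rfl
  · simp

/-- A module which is finite over `k⟦t⟧`. -/
instance instFinite : Module.Finite (PowerSeries k) (RootDisk p k) := by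
  classical
  refine ⟨⟨Finset.univ.image fun r : Fin p => (xp (r : ℕ) : RootDisk p k), eq_top_iff.2 fun y _ => ?_⟩⟩
  rw [eq_sum y]
  refine Submodule.sum_mem _ fun r _ => Submodule.smul_mem _ _ (Submodule.subset_span ?_)
  simp

/-- If `p + 1` elements of `k⟦x⟧` are given, they are dependent: a lattice of full rank contains a
multiple of everything. -/
lemma exists_smul_mem {ι : Type*} [Fintype ι] (hι : p ≤ Fintype.card ι) {v : ι → RootDisk p k}
    (hv : LinearIndependent (PowerSeries k) v) (y : RootDisk p k) :
    ∃ c : PowerSeries k, c ≠ 0 ∧ c • y ∈ Submodule.span (PowerSeries k) (Set.range v) := by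
  classical
  have hdep : ¬ LinearIndependent (PowerSeries k) (fun o : Option ι => o.elim y v) := by
    intro h
    have := h.fintype_card_le_finrank
    have h2 : Module.finrank (PowerSeries k) (RootDisk p k) ≤ p := by
      have htop : Submodule.span (PowerSeries k)
          (Set.range fun r : Fin p => (xp (r : ℕ) : RootDisk p k)) = ⊤ := by
        refine eq_top_iff.2 fun z _ => ?_
        rw [eq_sum z]
        exact Submodule.sum_mem _ fun r _ => Submodule.smul_mem _ _ (Submodule.subset_span ⟨r, rfl⟩)
      have := finrank_range_le_card (R := PowerSeries k) fun r : Fin p => (xp (r : ℕ) : RootDisk p k)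
      rw [Set.finrank, htop, finrank_top] at this
      simpa using this
    simp at this
    omega
  rw [Fintype.not_linearIndependent_iff] at hdep
  obtain ⟨g, hg, i, hi⟩ := hdep
  simp only [Fintype.sum_option, Option.elim_none, Option.elim_some] at hg
  refine ⟨g none, ?_, ?_⟩
  · intro h0
    rw [h0, zero_smul, zero_add] at hg
    have := Fintype.linearIndependent_iff.1 hv (fun j => g (some j)) hg
    cases i with
    | none => exact hi h0
    | some j => exact hi (this j)
  · rw [eq_neg_of_add_eq_zero_left hg]
    exact neg_mem (Submodule.sum_mem _ fun j _ => Submodule.smul_mem _ _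
      (Submodule.subset_span ⟨j, rfl⟩))

/-- A lattice containing a nonzero multiple of everything is spanned by `p` elements whose orders
are pairwise incongruent modulo `p`. -/
lemma exists_staircase (M : Submodule (PowerSeries k) (RootDisk p k))
    (hM : ∀ y, ∃ c : PowerSeries k, c ≠ 0 ∧ c • y ∈ M) :
    ∃ g : Fin p → RootDisk p k, (∀ r, g r ∈ M) ∧ Submodule.span (PowerSeries k) (Set.range g) = M ∧
      ∀ r, ∃ d : ℕ, (RootDisk.val (g r)).order = d ∧ d % p = (r : ℕ) := by
  classical
  have hp : 0 < p := Nat.pos_of_ne_zero (NeZero.ne p)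
  choose c hc0 hcM using fun r : Fin p => hM (xp (r : ℕ))
  set C := ∏ r, c r
  have hC0 : C ≠ 0 := Finset.prod_ne_zero_iff.2 fun r _ => hc0 r
  have hCM : ∀ y, C • y ∈ M := by
    intro y
    rw [eq_sum y, Finset.smul_sum]
    refine M.sum_mem fun r _ => ?_
    rw [smul_comm]
    refine M.smul_mem _ ?_
    rw [show C = (∏ j ∈ Finset.univ.erase r, c j) * c r from
      (Finset.prod_erase_mul _ _ (Finset.mem_univ r)).symm, mul_smul]
    exact M.smul_mem _ (hcM r)
  obtain ⟨e, he⟩ : ∃ e : ℕ, C.order = e :=
    ⟨_, (ENat.natCast_toNat (order_eq_top.not.2 hC0)).symm⟩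
  have hex : ∀ r : Fin p, ∃ d : ℕ, d % p = (r : ℕ) ∧
      ∃ f ∈ M, (RootDisk.val f).order = (d : ℕ∞) := by
    intro r
    refine ⟨p * e + r, by rw [Nat.mul_add_mod, Nat.mod_eq_of_lt r.2], C • xp (r : ℕ), hCM _, ?_⟩
    rw [order_val_smul, xp, RingEquiv.apply_symm_apply, order_X_pow, he]
    push_cast [nsmul_eq_mul]
    rfl
  choose hmod g hgM hgd using fun r => Nat.find_spec (hex r)
  refine ⟨g, hgM, le_antisymm (Submodule.span_le.2 ?_) ?_, fun r => ⟨_, hgd r, hmod r⟩⟩
  · rintro _ ⟨r, rfl⟩; exact hgM r
  set N := Submodule.span (PowerSeries k) (Set.range g)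
  set B := p * (e + 1)
  have key : ∀ i (f : RootDisk p k), f ∈ M → (((B - i : ℕ) : ℕ∞) ≤ (RootDisk.val f).order) →
      f ∈ N ⊔ (Ideal.span {(PowerSeries.X : PowerSeries k)}) • M := by
    intro i
    induction i with
    | zero =>
      intro f hf hord
      refine Submodule.mem_sup_right ?_
      obtain ⟨C', hC'⟩ : ∃ C' : PowerSeries k, C = PowerSeries.X ^ e * C' ∧ IsUnit C' := by
        obtain ⟨C', hC'⟩ := X_pow_dvd_iff.2 fun i hi => coeff_of_lt_order (φ := C) i (by
          rw [he]; exact_mod_cast hi)
        refine ⟨C', hC', isUnit_iff_constantCoeff.2 (isUnit_iff_ne_zero.2 fun h0 => ?_)⟩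
        have := coeff_order hC0
        rw [show C.order.toNat = e by simp [he]] at this
        apply this
        rw [hC', coeff_X_pow_mul', if_pos le_rfl, Nat.sub_self, coeff_zero_eq_constantCoeff_apply,
          h0]
      obtain ⟨f', hf'⟩ : (PowerSeries.X : PowerSeries k) ^ B ∣ RootDisk.val f :=
        X_pow_dvd_iff.2 fun i hi => coeff_of_lt_order i (lt_of_lt_of_le (by exact_mod_cast hi) hord)
      obtain ⟨hC', u, hu⟩ := hC'
      have : f = (PowerSeries.X : PowerSeries k) • (C •
          RootDisk.val.symm (PowerSeries.expand p (NeZero.ne p) ((u⁻¹ : (PowerSeries k)ˣ) :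
            PowerSeries k) * f')) := by
        apply RootDisk.val.injective
        rw [val_smul, val_smul, RingEquiv.apply_symm_apply, hC', map_mul, map_pow, expand_X, hf',
          ← hu, ← pow_mul]
        have hone : PowerSeries.expand p (NeZero.ne p) (u : PowerSeries k) *
            PowerSeries.expand p (NeZero.ne p) ((u⁻¹ : (PowerSeries k)ˣ) : PowerSeries k) = 1 := by
          rw [← map_mul, Units.mul_inv, map_one]
        linear_combination (-(PowerSeries.X ^ B * f')) * hone
      rw [this]
      exact Submodule.smul_mem_smul (Ideal.mem_span_singleton_self _) (hCM _)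
    | succ i ih =>
      intro f hf hord
      by_cases hlt : ((B - i : ℕ) : ℕ∞) ≤ (RootDisk.val f).order
      · exact ih f hf hlt
      obtain ⟨d, hd⟩ : ∃ d : ℕ, (RootDisk.val f).order = d :=
        ⟨_, (ENat.natCast_toNat (ne_top_of_lt (not_le.1 hlt))).symm⟩
      rw [hd, Nat.cast_le] at hord
      rw [hd, Nat.cast_le] at hlt
      set r : Fin p := ⟨d % p, Nat.mod_lt _ hp⟩
      set dr := Nat.find (hex r)
      have hle : dr ≤ d := Nat.find_min' (hex r) ⟨rfl, f, hf, hd⟩
      have hdvd : p ∣ d - dr := (Nat.modEq_iff_dvd' hle).1 (hmod r)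
      have hne : coeff dr (RootDisk.val (g r)) ≠ 0 := by
        have h0 : RootDisk.val (g r) ≠ 0 := fun h => by
          have := hgd r; rw [h, order_zero] at this; exact ENat.top_ne_natCast _ this
        have := coeff_order h0
        rwa [show (RootDisk.val (g r)).order.toNat = dr by rw [hgd r]; rfl] at this
      set a : PowerSeries k := monomial ((d - dr) / p)
        (coeff d (RootDisk.val f) / coeff dr (RootDisk.val (g r)))
      have hsub : f - a • g r ∈ M := M.sub_mem hf (M.smul_mem _ (hgM r))
      have hord' : ((B - i : ℕ) : ℕ∞) ≤ (RootDisk.val (f - a • g r)).order := by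
        refine nat_le_order _ _ fun j hj => ?_
        have hexp : RootDisk.val (a • g r) =
            monomial (d - dr) (coeff d (RootDisk.val f) / coeff dr (RootDisk.val (g r))) *
              RootDisk.val (g r) := by
          rw [val_smul, expand_monomial, Nat.mul_div_cancel' hdvd]
        have hmon : ∀ (m : ℕ) (x : k), monomial m x = PowerSeries.C x * PowerSeries.X ^ m := fun m x => by
          ext t; rw [coeff_monomial, PowerSeries.coeff_C_mul, coeff_X_pow, mul_ite, mul_one, mul_zero]
        rw [map_sub, map_sub, hexp, hmon, mul_assoc, PowerSeries.coeff_C_mul, coeff_X_pow_mul', mul_ite,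
          mul_zero]
        have hjd : j ≤ d := by omega
        rcases eq_or_lt_of_le hjd with rfl | hlt'
        · rw [if_pos (Nat.sub_le _ _), show j - (j - dr) = dr by omega, div_mul_cancel₀ _ hne,
            sub_self]
        · rw [coeff_of_lt_order j (by rw [hd]; exact_mod_cast hlt')]
          split_ifs with h
          · rw [coeff_of_lt_order (j - (d - dr)) (by rw [hgd r]; exact_mod_cast (by omega)),
              mul_zero, sub_zero]
          · rw [sub_zero]
      have := ih _ hsub hord'
      rw [← sub_add_cancel f (a • g r)]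
      exact add_mem this (Submodule.mem_sup_left (Submodule.smul_mem _ _
        (Submodule.subset_span ⟨r, rfl⟩)))
  have hle : M ≤ N ⊔ (Ideal.span {(PowerSeries.X : PowerSeries k)}) • M := fun f hf =>
    key B f hf (by simp)
  refine Submodule.le_of_le_smul_of_le_jacobson_bot (IsNoetherian.noetherian M) ?_ hle
  rw [IsLocalRing.jacobson_eq_maximalIdeal ⊥ bot_ne_top, maximalIdeal_eq_span_X]

end Crimp
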