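import Groth.Agent.Lib.Crimp.RootDisk

/-!
Triple crimps over the formal disk.
-/

namespace Crimp

open W4c1hurwitzcpt PowerSeries

variable {k : Type*} [Field k]

theorem basis_valuations (M : Submodule (PowerSeries k) (RootDisk 3 k))
    (bM : Module.Basis (Fin 3) (PowerSeries k) M) :
    ∃ g : Module.Basis (Fin 3) (PowerSeries k) M, ∀ i j : Fin 3, i ≠ j →
      ¬ Nat.ModEq 3 (PowerSeries.order (RootDisk.val ((g i : M) : RootDisk 3 k))).toNat
        (PowerSeries.order (RootDisk.val ((g j : M) : RootDisk 3 k))).toNat := by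
  have hli : LinearIndependent (PowerSeries k) (fun i => ((bM i : M) : RootDisk 3 k)) :=
    bM.linearIndependent.map' M.subtype M.ker_subtype
  obtain ⟨g, hg, hspan, hord⟩ := exists_staircase M fun y => by
    obtain ⟨c, hc, hcy⟩ := exists_smul_mem (by simp) hli y
    refine ⟨c, hc, Submodule.span_le.2 ?_ hcy⟩
    rintro _ ⟨i, rfl⟩; exact (bM i).2
  let g' : Fin 3 → M := fun r => ⟨g r, hg r⟩
  have htop : ⊤ ≤ Submodule.span (PowerSeries k) (Set.range g') := by
    intro m _
    obtain ⟨a, ha⟩ := (Submodule.mem_span_range_iff_exists_fun _).1 (hspan.ge m.2)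
    exact (Submodule.mem_span_range_iff_exists_fun _).2 ⟨a, Subtype.ext (by simpa [g'] using ha)⟩
  have : Module.Finite (PowerSeries k) M := Module.Finite.of_basis bM
  let L : M →ₗ[PowerSeries k] M := bM.constr (PowerSeries k) g'
  have hL : Function.Injective L := OrzechProperty.injective_of_surjective_endomorphism L (by
    rw [← LinearMap.range_eq_top, bM.constr_range]; exact eq_top_iff.2 htop)
  have hli' : LinearIndependent (PowerSeries k) g' := by
    have := bM.linearIndependent.map' L (LinearMap.ker_eq_bot.2 hL)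
    have heq : g' = L ∘ bM := funext fun m => (bM.constr_basis (PowerSeries k) g' m).symm
    rw [heq]; exact this
  refine ⟨Module.Basis.mk hli' htop, fun i j hij h => hij (Fin.ext ?_)⟩
  rw [Module.Basis.mk_apply, Module.Basis.mk_apply] at h
  obtain ⟨di, hdi, hmi⟩ := hord i
  obtain ⟨dj, hdj, hmj⟩ := hord j
  change Nat.ModEq 3 (PowerSeries.order (RootDisk.val (g i))).toNat
    (PowerSeries.order (RootDisk.val (g j))).toNat at h
  rw [hdi, hdj, ENat.toNat_natCast, ENat.toNat_natCast] at h
  have h' : di % 3 = dj % 3 := h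
  omega

theorem simply_span (M : Submodule (PowerSeries k) (RootDisk 2 k × PowerSeries k))
    (h1 : (1 : (RootDisk 2 k × PowerSeries k)) ∈ M)
    (bM : Module.Basis (Fin 3) (PowerSeries k) M) :
    ∃ f₁ f₂ : RootDisk 2 k,
      ¬ Nat.ModEq 2 (PowerSeries.order (RootDisk.val f₁)).toNat
        (PowerSeries.order (RootDisk.val f₂)).toNat ∧
      M = Submodule.span (PowerSeries k)
        {(1 : (RootDisk 2 k × PowerSeries k)), (f₁, 0), (f₂, 0)} := by
  classical
  let M0 := M.comap (LinearMap.inl (PowerSeries k) (RootDisk 2 k) (PowerSeries k))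
  have hdec : ∀ f a, (f, a) ∈ M → f - a • (1 : RootDisk 2 k) ∈ M0 := by
    intro f a hfa
    have := M.sub_mem hfa (M.smul_mem a h1)
    show ((f - a • (1 : RootDisk 2 k), (0 : PowerSeries k)) : RootDisk 2 k × PowerSeries k) ∈ M
    convert this using 1
    simp [Prod.ext_iff]
  -- torsion quotient
  let v : Fin 3 → RootDisk 2 k := fun i =>
    (bM i : RootDisk 2 k × PowerSeries k).1 - (bM i : RootDisk 2 k × PowerSeries k).2 • 1
  have hv : ∀ y : RootDisk 2 k, ∃ c : PowerSeries k, c ≠ 0 ∧ c • y ∈ M0 := by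
    intro y
    let w : Option (Option (Fin 3)) → RootDisk 2 k × PowerSeries k := fun o =>
      o.elim (y, 0) (fun o => o.elim (0, 1) fun i => bM i)
    have hdep : ¬ LinearIndependent (PowerSeries k) (fun o : Option (Fin 3) =>
        o.elim (y, (0 : PowerSeries k)) fun i => (bM i : RootDisk 2 k × PowerSeries k)) := by
      intro h
      have h4 := h.fintype_card_le_finrank
      have h2 : Module.finrank (PowerSeries k) (RootDisk 2 k × PowerSeries k) ≤ 3 := by
        have htop : Submodule.span (PowerSeries k)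
            (Set.range fun r : Option (Fin 2) =>
              r.elim ((0, 1) : RootDisk 2 k × PowerSeries k) fun r => (xp (r : ℕ), 0)) = ⊤ := by
          refine eq_top_iff.2 fun z _ => ?_
          rw [show z = z.2 • ((0, 1) : RootDisk 2 k × PowerSeries k) +
            LinearMap.inl (PowerSeries k) (RootDisk 2 k) (PowerSeries k) z.1 by simp, eq_sum z.1,
            map_sum]
          refine add_mem (Submodule.smul_mem _ _ (Submodule.subset_span ⟨none, rfl⟩))
            (Submodule.sum_mem _ fun r _ => ?_)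
          rw [map_smul]
          exact Submodule.smul_mem _ _ (Submodule.subset_span ⟨some r, rfl⟩)
        have := finrank_range_le_card (R := PowerSeries k) fun r : Option (Fin 2) =>
              r.elim ((0, 1) : RootDisk 2 k × PowerSeries k) fun r => (xp (r : ℕ), 0)
        rw [Set.finrank, htop, finrank_top] at this
        simpa using this
      simp at h4
      omega
    rw [Fintype.not_linearIndependent_iff] at hdep
    obtain ⟨g, hg, i, hi⟩ := hdep
    simp only [Fintype.sum_option, Option.elim_none, Option.elim_some] at hg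
    refine ⟨g none, ?_, ?_⟩
    · intro h0
      rw [h0, zero_smul, zero_add] at hg
      have hli : LinearIndependent (PowerSeries k) (fun i => ((bM i : M) : RootDisk 2 k × PowerSeries k)) :=
        bM.linearIndependent.map' M.subtype M.ker_subtype
      have := Fintype.linearIndependent_iff.1 hli (fun j => g (some j)) hg
      cases i with
      | none => exact hi h0
      | some j => exact hi (this j)
    · have hmem : g none • ((y, 0) : RootDisk 2 k × PowerSeries k) ∈ M := by
        rw [eq_neg_of_add_eq_zero_left hg]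
        exact neg_mem (M.sum_mem fun j _ => M.smul_mem _ (bM j).2)
      show LinearMap.inl (PowerSeries k) (RootDisk 2 k) (PowerSeries k) (g none • y) ∈ M
      rw [map_smul]; exact hmem
  obtain ⟨g, hg, hspan, hord⟩ := exists_staircase M0 hv
  refine ⟨g 0, g 1, ?_, le_antisymm ?_ (Submodule.span_le.2 ?_)⟩
  · obtain ⟨di, hdi, hmi⟩ := hord 0
    obtain ⟨dj, hdj, hmj⟩ := hord 1
    rw [hdi, hdj, ENat.toNat_natCast, ENat.toNat_natCast]
    intro h
    have : di % 2 = dj % 2 := h
    simp only [Fin.val_zero, Fin.val_one] at hmi hmj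
    omega
  · rintro ⟨f, a⟩ hfa
    have h0 := hspan.ge (hdec f a hfa)
    obtain ⟨c, hc⟩ := (Submodule.mem_span_range_iff_exists_fun _).1 h0
    rw [Fin.sum_univ_two] at hc
    rw [show ((f, a) : RootDisk 2 k × PowerSeries k) = a • (1 : RootDisk 2 k × PowerSeries k) +
        c 0 • (g 0, 0) + c 1 • (g 1, 0) by
      simp [Prod.ext_iff, add_assoc, hc]]
    refine add_mem (add_mem ?_ ?_) ?_ <;> refine Submodule.smul_mem _ _ (Submodule.subset_span ?_) <;>
      simp
  · rintro x (rfl | rfl | rfl)
    · exact h1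
    · exact hg 0
    · exact hg 1

theorem span_mul_closed_iff (m n : ℕ) (hm : ¬ 3 ∣ m) (x g : RootDisk 3 k)
    (hx : RootDisk.val x = PowerSeries.X) (hg : PowerSeries.order (RootDisk.val g) = 0)
    (M : Submodule (PowerSeries k) (RootDisk 3 k))
    (hM : M = Submodule.span (PowerSeries k) {1, x ^ m * g} ⊔
      (Ideal.span {x ^ n} : Ideal (RootDisk 3 k)).restrictScalars (PowerSeries k)) :
    (∀ a ∈ M, ∀ b ∈ M, a * b ∈ M) ↔ n ≤ 2 * m := by
  have hmem : ∀ z, z ∈ M ↔ ∃ a b : PowerSeries k, ∃ c : RootDisk 3 k,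
      z = a • 1 + b • (x ^ m * g) + c * x ^ n := by
    intro z
    rw [hM, Submodule.mem_sup]
    constructor
    · rintro ⟨y, hy, w, hw, rfl⟩
      obtain ⟨a, b, rfl⟩ := Submodule.mem_span_pair.1 hy
      obtain ⟨c, rfl⟩ := Ideal.mem_span_singleton'.1 hw
      exact ⟨a, b, c, rfl⟩
    · rintro ⟨a, b, c, rfl⟩
      exact ⟨_, Submodule.mem_span_pair.2 ⟨a, b, rfl⟩, _, Ideal.mem_span_singleton'.2 ⟨c, rfl⟩, rfl⟩
  constructor
  · intro h
    by_contra hn
    push Not at hn
    have hy : x ^ m * g ∈ M := (hmem _).2 ⟨0, 1, 0, by simp⟩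
    obtain ⟨a, b, c, habc⟩ := (hmem _).1 (h _ hy _ hy)
    have hv := congrArg RootDisk.val habc
    simp only [map_add, map_mul, map_pow, hx, val_smul, map_one, mul_one] at hv
    set A := PowerSeries.expand 3 (NeZero.ne 3) a
    set B := PowerSeries.expand 3 (NeZero.ne 3) b
    set G := RootDisk.val g
    have hG : constantCoeff G ≠ 0 := by
      intro h0
      have hne : G ≠ 0 := fun e => by rw [e, order_zero] at hg; exact ENat.top_ne_zero hg
      have := coeff_order hne
      rw [hg, ENat.toNat_zero, coeff_zero_eq_constantCoeff_apply] at this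
      exact this h0
    have hord : (A + B * (PowerSeries.X ^ m * G)).order = ((2 * m : ℕ) : ℕ∞) := by
      refine order_eq_nat.2 ⟨?_, fun i hi => ?_⟩
      all_goals
        rw [show A + B * (PowerSeries.X ^ m * G) =
          PowerSeries.X ^ (2 * m) * (G * G) - RootDisk.val c * PowerSeries.X ^ n by
            rw [eq_sub_iff_add_eq, ← hv]; ring, map_sub, coeff_X_pow_mul', coeff_mul_X_pow']
      · rw [if_pos le_rfl, if_neg (by omega), sub_zero, Nat.sub_self,
          coeff_zero_eq_constantCoeff_apply, map_mul]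
        exact mul_ne_zero hG hG
      · rw [if_neg (by omega), if_neg (by omega), sub_zero]
    have hA : A.order = 3 • a.order := order_expand ..
    have hB : (B * (PowerSeries.X ^ m * G)).order = 3 • b.order + m := by
      rw [order_mul, order_mul, order_X_pow, hg, order_expand, add_zero]
    have hne : A.order ≠ (B * (PowerSeries.X ^ m * G)).order ∨
        (A.order = ⊤ ∧ (B * (PowerSeries.X ^ m * G)).order = ⊤) := by
      rw [hA, hB]
      induction a.order using ENat.recTopCoe with
      | top =>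
        induction b.order using ENat.recTopCoe with
        | top => right; simp
        | coe v => left; simp [nsmul_eq_mul]; exact_mod_cast ENat.top_ne_natCast (3 * v + m)
      | coe u =>
        induction b.order using ENat.recTopCoe with
        | top => left; simp [nsmul_eq_mul]; exact_mod_cast ENat.natCast_ne_top (3 * u)
        | coe v =>
          left
          intro e
          have e' : 3 * u = 3 * v + m := by
            simp only [nsmul_eq_mul, Nat.cast_ofNat] at e
            exact_mod_cast e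
          omega
    rcases hne with hne | ⟨h1, h2⟩
    · rw [order_add_of_order_ne _ _ hne] at hord
      rcases min_choice A.order (B * (PowerSeries.X ^ m * G)).order with hc | hc <;>
        rw [hc] at hord
      · rw [hA] at hord
        revert hord
        induction a.order using ENat.recTopCoe with
        | top => intro hord; simp [nsmul_eq_mul] at hord; exact ENat.top_ne_natCast (2 * m) (by exact_mod_cast hord)
        | coe u =>
          intro hord
          have e' : 3 * u = 2 * m := by
            simp only [nsmul_eq_mul, Nat.cast_ofNat] at hord; exact_mod_cast hord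
          omega
      · rw [hB] at hord
        revert hord
        induction b.order using ENat.recTopCoe with
        | top => intro hord; simp [nsmul_eq_mul] at hord; exact ENat.top_ne_natCast (2 * m) (by exact_mod_cast hord)
        | coe v =>
          intro hord
          have e' : 3 * v + m = 2 * m := by
            simp only [nsmul_eq_mul, Nat.cast_ofNat] at hord; exact_mod_cast hord
          omega
    · rw [order_eq_top] at h1 h2
      rw [h1, h2, add_zero, order_zero] at hord
      exact ENat.top_ne_natCast _ hord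
  · intro hn a ha b hb
    obtain ⟨a₀, a₁, c, rfl⟩ := (hmem _).1 ha
    obtain ⟨b₀, b₁, d, rfl⟩ := (hmem _).1 hb
    obtain ⟨e, he⟩ : x ^ n ∣ x ^ (2 * m) := pow_dvd_pow _ hn
    refine (hmem _).2 ⟨a₀ * b₀, a₀ * b₁ + a₁ * b₀,
      (a₁ * b₁) • (e * (g * g)) + c * (b₀ • 1 + b₁ • (x ^ m * g) + d * x ^ n) +
        d * (a₀ • 1 + a₁ • (x ^ m * g)), ?_⟩
    simp only [Algebra.smul_def, map_mul, map_add, mul_one]
    have he2 : x ^ m * x ^ m = x ^ n * e := by rw [← pow_add, ← two_mul, he]
    linear_combination (algebraMap (PowerSeries k) (RootDisk 3 k) a₁ *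
      algebraMap (PowerSeries k) (RootDisk 3 k) b₁ * g * g) * he2

theorem etale_quotient (m n : ℕ) (hmn : m ≤ n)
    (f : (Fin 3 → PowerSeries k))
    (hf : f ∉ Submodule.span (PowerSeries k) {(1 : (Fin 3 → PowerSeries k))} ⊔
      Ideal.span {(PowerSeries.X : PowerSeries k)} • (⊤ : Submodule (PowerSeries k) (Fin 3 → PowerSeries k)))
    (S : Submodule (PowerSeries k) (Fin 3 → PowerSeries k))
    (hS : S = Submodule.span (PowerSeries k)
        {(1 : (Fin 3 → PowerSeries k)), ((PowerSeries.X : PowerSeries k) ^ m) • f} ⊔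
      Ideal.span {(PowerSeries.X : PowerSeries k) ^ n} • (⊤ : Submodule (PowerSeries k) (Fin 3 → PowerSeries k))) :
    Nonempty (((Fin 3 → PowerSeries k) ⧸ S) ≃ₗ[PowerSeries k]
      ((PowerSeries k ⧸ Ideal.span {(PowerSeries.X : PowerSeries k) ^ m}) ×
        (PowerSeries k ⧸ Ideal.span {(PowerSeries.X : PowerSeries k) ^ n}))) := by
  set t : PowerSeries k := PowerSeries.X
  have hmem : ∀ z, z ∈ S ↔ ∃ a b : PowerSeries k, ∃ w : Fin 3 → PowerSeries k,
      z = a • 1 + b • (t ^ m • f) + t ^ n • w := by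
    intro z
    rw [hS, Submodule.mem_sup]
    constructor
    · rintro ⟨y, hy, w, hw, rfl⟩
      obtain ⟨a, b, rfl⟩ := Submodule.mem_span_pair.1 hy
      rw [Submodule.ideal_span_singleton_smul] at hw
      obtain ⟨c, -, rfl⟩ := hw
      exact ⟨a, b, c, rfl⟩
    · rintro ⟨a, b, c, rfl⟩
      exact ⟨_, Submodule.mem_span_pair.2 ⟨a, b, rfl⟩, _,
        Submodule.smul_mem_smul (Ideal.mem_span_singleton_self _) trivial, rfl⟩
  obtain ⟨i, j, hij⟩ : ∃ i j, constantCoeff (f i) ≠ constantCoeff (f j) := by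
    by_contra hall
    push Not at hall
    apply hf
    rw [Submodule.mem_sup]
    refine ⟨C (constantCoeff (f 0)) • 1, Submodule.mem_span_singleton.2 ⟨_, rfl⟩,
      f - C (constantCoeff (f 0)) • 1, ?_, by abel⟩
    rw [Submodule.ideal_span_singleton_smul]
    have : ∀ l, t ∣ f l - C (constantCoeff (f 0)) := fun l => by
      rw [X_dvd_iff, map_sub, constantCoeff_C, hall l 0, sub_self]
    choose w hw using this
    refine ⟨w, trivial, funext fun l => ?_⟩
    show t * w l = f l - C (constantCoeff (f 0)) * 1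
    rw [mul_one, hw l]
  have hne : i ≠ j := fun h => hij (by rw [h])
  obtain ⟨l, hli, hlj⟩ : ∃ l : Fin 3, l ≠ i ∧ l ≠ j := by
    have : ∀ i j : Fin 3, ∃ l : Fin 3, l ≠ i ∧ l ≠ j := by decide
    exact this i j
  obtain ⟨u, hu⟩ : IsUnit (f j - f i) :=
    isUnit_iff_constantCoeff.2 (isUnit_iff_ne_zero.2 (by
      rw [map_sub]; exact sub_ne_zero.2 hij.symm))
  let P : Fin 3 → (Fin 3 → PowerSeries k) →ₗ[PowerSeries k] PowerSeries k := LinearMap.proj
  let cmap : (Fin 3 → PowerSeries k) →ₗ[PowerSeries k] PowerSeries k :=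
    ((u⁻¹ : (PowerSeries k)ˣ) : PowerSeries k) • (P j - P i)
  let dmap : (Fin 3 → PowerSeries k) →ₗ[PowerSeries k] PowerSeries k :=
    P l - P i + (f i - f l) • cmap
  let φ := ((Submodule.mkQ (Ideal.span {t ^ m})).comp cmap).prod
    ((Submodule.mkQ (Ideal.span {t ^ n})).comp dmap)
  have hc1 : cmap 1 = 0 := by simp [cmap, P]
  have hd1 : dmap 1 = 0 := by simp [dmap, hc1, P]
  have hcf : cmap f = 1 := by
    show ((u⁻¹ : (PowerSeries k)ˣ) : PowerSeries k) * (f j - f i) = 1
    rw [← hu, Units.inv_mul]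
  have hdf : dmap f = 0 := by
    show f l - f i + (f i - f l) * cmap f = 0
    rw [hcf]; ring
  have hker : LinearMap.ker φ = S := by
    ext z
    simp only [φ, LinearMap.ker_prod, Submodule.mem_inf, LinearMap.mem_ker, LinearMap.comp_apply,
      Submodule.mkQ_apply, Submodule.Quotient.mk_eq_zero, Ideal.mem_span_singleton]
    constructor
    · rintro ⟨⟨c, hc⟩, ⟨d, hd⟩⟩
      refine (hmem _).2 ⟨z i - cmap z * f i, c, Pi.single l d, ?_⟩
      have hz : ∀ q, q = i ∨ q = j ∨ q = l := by
        have : ∀ i j l : Fin 3, i ≠ j → l ≠ i → l ≠ j → ∀ q, q = i ∨ q = j ∨ q = l := by decide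
        exact this i j l hne hli hlj
      have hu' : ((u⁻¹ : (PowerSeries k)ˣ) : PowerSeries k) * (f j - f i) = 1 := hcf
      have hcz : cmap z = ((u⁻¹ : (PowerSeries k)ˣ) : PowerSeries k) * (z j - z i) := rfl
      have hdz : dmap z = z l - z i + (f i - f l) * cmap z := rfl
      funext q
      simp only [Pi.add_apply, Pi.smul_apply, Pi.one_apply, smul_eq_mul]
      rcases hz q with rfl | rfl | rfl
      · rw [Pi.single_eq_of_ne hli.symm, ← mul_assoc, mul_comm c, ← hc]; ring
      · rw [Pi.single_eq_of_ne hlj.symm, ← mul_assoc, mul_comm c, ← hc, hcz]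
        linear_combination (-(z q - z i)) * hu'
      · rw [Pi.single_eq_same, ← hd, hdz, ← mul_assoc, mul_comm c, ← hc]; ring
    · intro hz
      obtain ⟨a, b, w, rfl⟩ := (hmem _).1 hz
      simp only [map_add, map_smul, hc1, hcf, hd1, hdf, smul_eq_mul, mul_zero, mul_one, zero_add]
      exact ⟨dvd_add (dvd_mul_left _ _) (dvd_mul_of_dvd_left (pow_dvd_pow _ hmn) _),
        dvd_mul_right _ _⟩
  have hsurj : Function.Surjective φ := by
    rintro ⟨A, B⟩
    obtain ⟨A, rfl⟩ := Submodule.mkQ_surjective _ A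
    obtain ⟨B, rfl⟩ := Submodule.mkQ_surjective _ B
    refine ⟨A • f + Pi.single l B, ?_⟩
    have hcs : cmap (Pi.single l B) = 0 := by
      simp [cmap, P, Pi.single_eq_of_ne hli.symm, Pi.single_eq_of_ne hlj.symm]
    have hds : dmap (Pi.single l B) = B := by
      simp [dmap, hcs, P, Pi.single_eq_of_ne hli.symm]
    simp [φ, hcs, hds, hcf, hdf]
  exact ⟨(Submodule.quotEquivOfEq _ _ hker.symm).trans (φ.quotKerEquivOfSurjective hsurj)⟩

theorem etale_crimp (m n : ℕ) (hmn : m ≤ n) (hn : n ≤ 2 * m)
    (f : (Fin 3 → PowerSeries k))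
    (hf : f ∉ Submodule.span (PowerSeries k) {(1 : (Fin 3 → PowerSeries k))} ⊔
      Ideal.span {(PowerSeries.X : PowerSeries k)} • (⊤ : Submodule (PowerSeries k) (Fin 3 → PowerSeries k)))
    (S : Submodule (PowerSeries k) (Fin 3 → PowerSeries k))
    (hS : S = Submodule.span (PowerSeries k)
        {(1 : (Fin 3 → PowerSeries k)), ((PowerSeries.X : PowerSeries k) ^ m) • f} ⊔
      Ideal.span {(PowerSeries.X : PowerSeries k) ^ n} • (⊤ : Submodule (PowerSeries k) (Fin 3 → PowerSeries k))) :
    (∀ x ∈ S, ∀ y ∈ S, x * y ∈ S) ∧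
    Nonempty (((Fin 3 → PowerSeries k) ⧸ S) ≃ₗ[PowerSeries k]
      ((PowerSeries k ⧸ Ideal.span {(PowerSeries.X : PowerSeries k) ^ m}) ×
        (PowerSeries k ⧸ Ideal.span {(PowerSeries.X : PowerSeries k) ^ n}))) := by
  set t : PowerSeries k := PowerSeries.X
  have hmem : ∀ z, z ∈ S ↔ ∃ a b : PowerSeries k, ∃ w : Fin 3 → PowerSeries k,
      z = a • 1 + b • (t ^ m • f) + t ^ n • w := by
    intro z
    rw [hS, Submodule.mem_sup]
    constructor
    · rintro ⟨y, hy, w, hw, rfl⟩
      obtain ⟨a, b, rfl⟩ := Submodule.mem_span_pair.1 hy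
      rw [Submodule.ideal_span_singleton_smul] at hw
      obtain ⟨c, -, rfl⟩ := hw
      exact ⟨a, b, c, rfl⟩
    · rintro ⟨a, b, c, rfl⟩
      exact ⟨_, Submodule.mem_span_pair.2 ⟨a, b, rfl⟩, _,
        Submodule.smul_mem_smul (Ideal.mem_span_singleton_self _) trivial, rfl⟩
  refine ⟨?_, etale_quotient m n hmn f hf S hS⟩
  intro x hx y hy
  obtain ⟨a₀, a₁, u, rfl⟩ := (hmem _).1 hx
  obtain ⟨b₀, b₁, v, rfl⟩ := (hmem _).1 hy
  obtain ⟨e, he⟩ : t ^ n ∣ t ^ (2 * m) := pow_dvd_pow _ hn
  refine (hmem _).2 ⟨a₀ * b₀, a₀ * b₁ + a₁ * b₀,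
    (a₁ * b₁ * e) • (f * f) + u * (b₀ • 1 + b₁ • (t ^ m • f) + t ^ n • v) +
      v * (a₀ • 1 + a₁ • (t ^ m • f)), ?_⟩
  funext l
  simp only [Pi.mul_apply, Pi.add_apply, Pi.smul_apply, Pi.one_apply, smul_eq_mul]
  have he2 : t ^ m * t ^ m = t ^ n * e := by rw [← pow_add, ← two_mul, he]
  linear_combination (a₁ * b₁ * f l * f l) * he2

theorem etale_structure (m n : ℕ) (hmn : m ≤ n)
    (S : Submodule (PowerSeries k) (Fin 3 → PowerSeries k))
    (h1 : (1 : (Fin 3 → PowerSeries k)) ∈ S)
    (e : ((Fin 3 → PowerSeries k) ⧸ S) ≃ₗ[PowerSeries k]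
      ((PowerSeries k ⧸ Ideal.span {(PowerSeries.X : PowerSeries k) ^ m}) ×
        (PowerSeries k ⧸ Ideal.span {(PowerSeries.X : PowerSeries k) ^ n}))) :
    Ideal.span {(PowerSeries.X : PowerSeries k) ^ n} •
        (⊤ : Submodule (PowerSeries k) (Fin 3 → PowerSeries k)) ≤ S ∧
    ∃ f : (Fin 3 → PowerSeries k),
      f ∉ Submodule.span (PowerSeries k) {(1 : (Fin 3 → PowerSeries k))} ⊔
        Ideal.span {(PowerSeries.X : PowerSeries k)} • (⊤ : Submodule (PowerSeries k) (Fin 3 → PowerSeries k)) ∧
      S = Submodule.span (PowerSeries k)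
          {(1 : (Fin 3 → PowerSeries k)), ((PowerSeries.X : PowerSeries k) ^ m) • f} ⊔
        Ideal.span {(PowerSeries.X : PowerSeries k) ^ n} •
          (⊤ : Submodule (PowerSeries k) (Fin 3 → PowerSeries k)) := by
  set t : PowerSeries k := PowerSeries.X
  set Q := (PowerSeries k ⧸ Ideal.span {t ^ m}) × (PowerSeries k ⧸ Ideal.span {t ^ n})
  let q : (Fin 3 → PowerSeries k) →ₗ[PowerSeries k] Q := e.toLinearMap.comp S.mkQ
  have hq : ∀ z, q z = 0 ↔ z ∈ S := fun z => by
    simp [q, Submodule.Quotient.mk_eq_zero]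
  have hqs : Function.Surjective q := e.surjective.comp S.mkQ_surjective
  have htm : ∀ (a : ℕ) (x : PowerSeries k ⧸ Ideal.span {t ^ a}), t ^ a • x = 0 := by
    intro a x
    obtain ⟨x, rfl⟩ := Submodule.mkQ_surjective _ x
    rw [← map_smul, Submodule.mkQ_apply, Submodule.Quotient.mk_eq_zero]
    exact Ideal.mem_span_singleton.2 (dvd_mul_right _ _)
  have htn : Ideal.span {t ^ n} • (⊤ : Submodule (PowerSeries k) (Fin 3 → PowerSeries k)) ≤ S := by
    rw [Submodule.ideal_span_singleton_smul]
    rintro _ ⟨w, -, rfl⟩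
    rw [← hq]
    show q (t ^ n • w) = 0
    rw [map_smul]
    refine Prod.ext ?_ (htm n _)
    show t ^ n • (q w).1 = 0
    have hp : t ^ n = t ^ (n - m) * t ^ m := by rw [← pow_add, Nat.sub_add_cancel hmn]
    exact (congrArg (fun x => x • (q w).1) hp).trans (by rw [mul_smul, htm m, smul_zero])
  refine ⟨htn, ?_⟩
  suffices h : ∃ f, f ∉ Submodule.span (PowerSeries k) {(1 : (Fin 3 → PowerSeries k))} ⊔
      Ideal.span {t} • (⊤ : Submodule (PowerSeries k) (Fin 3 → PowerSeries k)) ∧ t ^ m • f ∈ S by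
    obtain ⟨f, hf, hfS⟩ := h
    refine ⟨f, hf, ?_⟩
    set T := Submodule.span (PowerSeries k) {(1 : (Fin 3 → PowerSeries k)), t ^ m • f} ⊔
      Ideal.span {t ^ n} • (⊤ : Submodule (PowerSeries k) (Fin 3 → PowerSeries k)) with hT
    have hTS : T ≤ S := sup_le (Submodule.span_le.2 (by
      rintro x (rfl | rfl); exacts [h1, hfS])) htn
    obtain ⟨eT⟩ := etale_quotient m n hmn f hf T hT
    refine le_antisymm ?_ hTS
    let L : ((Fin 3 → PowerSeries k) ⧸ T) →ₗ[PowerSeries k] ((Fin 3 → PowerSeries k) ⧸ T) :=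
      (eT.symm.toLinearMap.comp e.toLinearMap).comp (T.mapQ S LinearMap.id hTS)
    have hL : Function.Injective L := OrzechProperty.injective_of_surjective_endomorphism L
      ((eT.symm.surjective.comp e.surjective).comp fun y => by
        obtain ⟨y, rfl⟩ := S.mkQ_surjective y
        exact ⟨T.mkQ y, rfl⟩)
    intro z hz
    have : L (T.mkQ z) = L 0 := by
      show eT.symm (e (S.mkQ z)) = _
      rw [(Submodule.Quotient.mk_eq_zero S).2 hz |> (fun h => (h : S.mkQ z = 0)), map_zero,
        map_zero, map_zero]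
    exact (Submodule.Quotient.mk_eq_zero T).1 (hL this)
  -- a vector whose class generates the first factor
  have hno : ∀ f : Fin 3 → PowerSeries k, f ∈ Submodule.span (PowerSeries k)
      {(1 : (Fin 3 → PowerSeries k))} ⊔ Ideal.span {t} •
        (⊤ : Submodule (PowerSeries k) (Fin 3 → PowerSeries k)) →
      ∃ (a : PowerSeries k) (w : Fin 3 → PowerSeries k), f = a • (1 : Fin 3 → PowerSeries k) + t • w := by
    intro f hf
    obtain ⟨y, hy, w, hw, rfl⟩ := Submodule.mem_sup.1 hf
    obtain ⟨a, rfl⟩ := Submodule.mem_span_singleton.1 hy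
    rw [Submodule.ideal_span_singleton_smul] at hw
    obtain ⟨w, -, rfl⟩ := hw
    exact ⟨a, w, rfl⟩
  rcases Nat.eq_zero_or_pos m with rfl | hm
  · -- the first factor is zero
    have hbasis : ∀ z : Fin 3 → PowerSeries k, q z = ∑ i, z i • q (Pi.single i 1) := by
      intro z
      conv_lhs => rw [show z = ∑ i, z i • Pi.single i (1 : PowerSeries k) by
        funext j; simp [Fintype.sum_apply, Pi.single_apply]]
      simp [map_sum]
    choose c hc using fun i => Submodule.mkQ_surjective _ (q (Pi.single i 1)).2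
    obtain ⟨l, hl⟩ : ∃ l, IsUnit (c l) ∨ n = 0 := by
      by_contra hall
      push Not at hall
      obtain ⟨z, hz⟩ := hqs (0, Submodule.Quotient.mk 1)
      have h2 : ∑ i, z i • (q (Pi.single i 1)).2 = Submodule.Quotient.mk 1 := by
        have := congrArg (LinearMap.snd (PowerSeries k) (PowerSeries k ⧸ Ideal.span {t ^ 0})
          (PowerSeries k ⧸ Ideal.span {t ^ n})) hz
        rw [hbasis z, map_sum] at this
        exact this
      simp only [← hc, ← map_smul, ← map_sum] at h2
      rw [Submodule.mkQ_apply, Submodule.Quotient.eq, Ideal.mem_span_singleton] at h2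
      have h3 : constantCoeff (∑ i, z i • c i - 1) = 0 :=
        X_dvd_iff.1 (dvd_trans (dvd_pow_self _ (hall 0).2) h2)
      have h4 : ∀ i, constantCoeff (c i) = 0 := fun i => by
        by_contra h; exact (hall i).1 (isUnit_iff_constantCoeff.2 (isUnit_iff_ne_zero.2 h))
      simp [map_sum, h4] at h3
    obtain ⟨i, hi⟩ := exists_ne l
    obtain ⟨j, hji, hjl⟩ : ∃ j : Fin 3, j ≠ i ∧ j ≠ l := by
      have : ∀ i l : Fin 3, ∃ j : Fin 3, j ≠ i ∧ j ≠ l := by decide
      exact this i l
    obtain ⟨γ, hγ⟩ : ∃ γ, (q (Pi.single i 1)).2 = γ • (q (Pi.single l 1)).2 := by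
      rcases hl with ⟨u, hu⟩ | rfl
      · refine ⟨c i * ((u⁻¹ : (PowerSeries k)ˣ) : PowerSeries k), ?_⟩
        rw [← hc, ← hc, ← map_smul, smul_eq_mul, ← hu, mul_assoc, Units.inv_mul, mul_one]
      · exact ⟨0, by
          have : Subsingleton (PowerSeries k ⧸ Ideal.span {t ^ 0}) :=
            Submodule.Quotient.subsingleton_iff.2 (by simp)
          exact Subsingleton.elim _ _⟩
    have hz : Subsingleton (PowerSeries k ⧸ Ideal.span {t ^ 0}) :=
      Submodule.Quotient.subsingleton_iff.2 (by simp)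
    refine ⟨Pi.single i 1 - γ • Pi.single l 1, fun hf => ?_, ?_⟩
    · obtain ⟨a, w, h⟩ := hno _ hf
      have hi' := congrArg constantCoeff (congrFun h i)
      have hj' := congrArg constantCoeff (congrFun h j)
      simp [hji, hjl, hi, t] at hi' hj'
      rw [← hj'] at hi'
      exact one_ne_zero hi'
    · rw [pow_zero, one_smul, ← hq, map_sub, map_smul]
      refine Prod.ext (Subsingleton.elim _ _) ?_
      show (q (Pi.single i 1)).2 - γ • (q (Pi.single l 1)).2 = 0
      rw [hγ, sub_self]
  · obtain ⟨f, hf⟩ := hqs (Submodule.Quotient.mk 1, 0)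
    refine ⟨f, fun hmem => ?_, ?_⟩
    · obtain ⟨a, w, rfl⟩ := hno _ hmem
      have h2 := congrArg Prod.fst hf
      rw [map_add, map_smul, (hq 1).2 h1, smul_zero, zero_add, map_smul, Prod.smul_fst] at h2
      obtain ⟨x, hx⟩ := Submodule.mkQ_surjective _ (q w).1
      rw [← hx, ← map_smul, Submodule.mkQ_apply, Submodule.Quotient.eq,
        Ideal.mem_span_singleton] at h2
      have := X_dvd_iff.1 (dvd_trans (dvd_pow_self _ hm.ne') h2)
      simp [t] at this
    · rw [← hq, map_smul, hf]
      refine Prod.ext (htm m _) ?_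
      show t ^ m • (0 : PowerSeries k ⧸ Ideal.span {t ^ n}) = 0
      rw [smul_zero]

end Crimp
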